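import Cfsg.Agent.H836.TT.NoAff

/-!
# S5554, TT14: existence of affine planes in classes of type `R` and `U`
-/

set_option autoImplicit false

namespace Cfsg.Agent.H836.TT

open Subgroup Cfsg.Agent.H854 Cfsg.Agent.H854.TM Cfsg.Agent.H854.ClassBasic Cfsg.Agent.H854.Ab
open Cfsg.Agent.Fischer480.Defs Cfsg.Agent.SporadicStructure.FischerSpace
open Cfsg.Agent.ThreeTransPolar.Basic
open Cfsg.Agent.Fischer3.Orth3Basic (Form cases3 mul_self_of_ne pm_of_ne rfn)
open Cfsg.Agent.H267.TT.RType (fdata Chart)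
open LinearMap (BilinForm)

section R

variable {n : ℕ} {B : BilinForm (ZMod 3) (Fin n → ZMod 3)}

theorem exists_onb (F : Form B) (hn : 6 ≤ n) : ∀ k ≤ 5, ∃ u : Fin k → (Fin n → ZMod 3),
    ∀ i j, B (u i) (u j) = if i = j then 1 else 0 := by
  intro k
  induction k with
  | zero => exact fun _ => ⟨fun i => i.elim0, fun i => i.elim0⟩
  | succ k ih =>
    intro hk
    obtain ⟨u, hu⟩ := ih (by omega)
    obtain ⟨t, ht, htt⟩ := F.exists_norm_one u ⊥ (by
      intro t ht ht'
      rw [Submodule.mem_span_range_iff_exists_fun] at ht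
      obtain ⟨c, hc⟩ := ht
      rw [Submodule.mem_bot, ← hc]
      refine Finset.sum_eq_zero fun j _ => ?_
      have h1 := ht' j
      rw [← hc, map_sum] at h1
      have h2 : ∀ i, B (u j) (c i • u i) = if j = i then c i else 0 := by
        intro i
        rw [map_smul, hu, smul_eq_mul]
        split_ifs <;> simp
      simp only [h2, Finset.sum_ite_eq, Finset.mem_univ, if_true] at h1
      rw [h1, zero_smul]) (by
      rw [finrank_bot, Module.finrank_fin_fun]
      omega)
    have ht' : ∀ i, B t (u i) = 0 := fun i => by rw [F.symm]; exact ht i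
    refine ⟨Fin.cons t u, fun i j => ?_⟩
    refine Fin.cases ?_ (fun i => ?_) i <;> refine Fin.cases ?_ (fun j => ?_) j
    · simp [htt]
    · simp [ht' j, (Fin.succ_ne_zero j).symm]
    · simp [ht i]
    · simp [hu i j]

theorem exists_aff_r {H : Type*} [Group H] [Finite H] {E : Set H} (h : Cls E) {n : ℕ} (hn : 6 ≤ n) (hR : IsR n E) :
    ∃ x a b : H, Aff E x a b := by
  obtain ⟨B, f, hB, hnd, h1, h2, h3, h4⟩ := hR
  have F : Form B := ⟨hB.eq, hnd.1⟩
  have C : Chart E n B f := ⟨F, hn, fdata h, h1, h2, h3, h4⟩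
  obtain ⟨u, hu⟩ := exists_onb F hn 5 le_rfl
  obtain ⟨x, hx⟩ : ∃ x, x = u 4 := ⟨_, rfl⟩
  obtain ⟨r, hr⟩ : ∃ r, r = u 0 + u 1 + u 2 := ⟨_, rfl⟩
  obtain ⟨s, hs⟩ : ∃ s, s = u 0 - u 1 + u 3 := ⟨_, rfl⟩
  have xx : B x x = 1 := by rw [hx, hu]; decide
  have xr : B x r = 0 := by
    rw [hx, hr]
    simp only [map_add, hu]
    decide
  have rx : B r x = 0 := by rw [F.symm]; exact xr
  have xs : B x s = 0 := by
    rw [hx, hs]
    simp only [map_add, map_sub, hu]
    decide
  have sx : B s x = 0 := by rw [F.symm]; exact xs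
  have rr : B r r = 0 := by
    rw [hr]
    simp only [map_add, LinearMap.add_apply, hu]
    decide
  have ss : B s s = 0 := by
    rw [hs]
    simp only [map_add, map_sub, LinearMap.add_apply, LinearMap.sub_apply, hu]
    decide
  have rs : B r s = 0 := by
    rw [hr, hs]
    simp only [map_add, map_sub, LinearMap.add_apply, hu]
    decide
  have sr : B s r = 0 := by rw [F.symm]; exact rs
  have r2 : B (u 2) r = 1 := by
    rw [hr]
    simp only [map_add, hu]
    decide
  have s2 : B (u 2) s = 0 := by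
    rw [hs]
    simp only [map_add, map_sub, hu]
    decide
  have s3 : B (u 3) s = 1 := by
    rw [hs]
    simp only [map_add, map_sub, hu]
    decide
  have r0 : r ≠ 0 := by
    intro h0
    rw [h0, map_zero] at r2
    exact absurd r2 (by decide)
  have s0 : s ≠ 0 := by
    intro h0
    rw [h0, map_zero] at s3
    exact absurd s3 (by decide)
  have hrs : r ≠ s := by
    intro h0
    rw [h0, s2] at r2
    exact absurd r2 (by decide)
  have hrs' : r ≠ -s := by
    intro h0
    rw [h0, map_neg, s2] at r2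
    exact absurd r2 (by decide)
  obtain ⟨e, he⟩ := C.exists_is xx
  obtain ⟨a, ha⟩ := C.exists_is (v := x + r) (by
    simp only [map_add, LinearMap.add_apply, xx, xr, rx, rr]; decide)
  obtain ⟨b, hb⟩ := C.exists_is (v := x + s) (by
    simp only [map_add, LinearMap.add_apply, xx, xs, sx, ss]; decide)
  -- a vector with nonzero product with `x` is nonzero
  have nz : ∀ v, B x v ≠ 0 → v ≠ 0 := by
    rintro v hv rfl
    exact hv (map_zero _)
  refine ⟨e, a, b, he.1, ha.1, hb.1, ?_, ?_, ?_, ?_⟩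
  · refine C.not_comm he ha ?_ ?_ ?_
    · simp only [map_add, xx, xr]; decide
    · intro h0
      exact r0 (left_eq_add.1 h0)
    · intro h0
      have h5 : B x x = B x (-(x + r)) := by rw [← h0]
      rw [map_neg, map_add, xx, xr] at h5
      exact absurd h5 (by decide)
  · refine C.not_comm he hb ?_ ?_ ?_
    · simp only [map_add, xx, xs]; decide
    · intro h0
      exact s0 (left_eq_add.1 h0)
    · intro h0
      have h5 : B x x = B x (-(x + s)) := by rw [← h0]
      rw [map_neg, map_add, xx, xs] at h5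
      exact absurd h5 (by decide)
  · refine C.not_comm ha hb ?_ ?_ ?_
    · simp only [map_add, LinearMap.add_apply, xx, xs, rx, rs]; decide
    · intro h0
      exact hrs (add_left_cancel h0)
    · intro h0
      have h5 : B x (x + r) = B x (-(x + s)) := by rw [← h0]
      rw [map_neg, map_add, map_add, xx, xs, xr] at h5
      exact absurd h5 (by decide)
  · have h5 := C.conj he ha
    rw [C.fd.inv_eq he.1] at h5
    have e5 : rfn B x (x + r) = -x + r := by
      rw [rfn, map_add, xx, xr, add_zero, one_smul]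
      have h3 : (3 : ZMod 3) • x = 0 := by
        rw [Cfsg.Agent.Fischer3.Orth3Basic.three, zero_smul]
      linear_combination (norm := module) h3
    rw [e5] at h5
    refine C.not_comm h5 hb ?_ ?_ ?_
    · simp only [map_add, map_neg, LinearMap.add_apply, LinearMap.neg_apply, xx, xs, rx, rs]; decide
    · intro h0
      have h6 : B x (-x + r) = B x (x + s) := by rw [← h0]
      rw [map_add, map_neg, map_add, xx, xs, xr] at h6
      exact absurd h6 (by decide)
    · intro h0
      apply hrs'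
      have h6 : -x + r = -x + -s := by rw [h0]; abel
      exact add_left_cancel h6

end R

section U

variable {F : Type} [Field F] {n : ℕ}

theorem herm_smul_left (c : F) (v w : Fin n → F) : hermForm n F 2 (c • v) w = c * hermForm n F 2 v w := by
  unfold Cfsg.hermForm
  rw [Finset.mul_sum]
  exact Finset.sum_congr rfl fun i _ => by rw [Pi.smul_apply, smul_eq_mul, mul_assoc]

theorem herm_smul_right (c : F) (v w : Fin n → F) : hermForm n F 2 v (c • w) = c ^ 2 * hermForm n F 2 v w := by
  unfold Cfsg.hermForm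
  rw [Finset.mul_sum]
  exact Finset.sum_congr rfl fun i _ => by rw [Pi.smul_apply, smul_eq_mul]; ring

theorem herm_pair (i j : Fin n) (a b : F) (w : Fin n → F) :
    hermForm n F 2 (Pi.single i a + Pi.single j b) w = a * w i ^ 2 + b * w j ^ 2 := by
  unfold Cfsg.hermForm
  simp only [Pi.add_apply, add_mul, Finset.sum_add_distrib]
  congr 1
  · rw [Finset.sum_eq_single i]
    · rw [Pi.single_eq_same]
    · intro k _ hk
      rw [Pi.single_eq_of_ne hk, zero_mul]
    · intro hk
      exact absurd (Finset.mem_univ i) hk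
  · rw [Finset.sum_eq_single j]
    · rw [Pi.single_eq_same]
    · intro k _ hk
      rw [Pi.single_eq_of_ne hk, zero_mul]
    · intro hk
      exact absurd (Finset.mem_univ j) hk

theorem exists_aff_u {H : Type*} [Group H] [Finite H] {E : Set H} (h : Cls E) {n : ℕ} (hn : 4 ≤ n) (hU : IsU n E) :
    ∃ x a b : H, Aff E x a b := by
  classical
  obtain ⟨F, _, _, f, hF, hne, hiso, hcomm, hinj, hsurj⟩ := hU
  have hchar : (2 : F) = 0 := by
    have h1 : ((Fintype.card F : ℕ) : F) = 0 := Nat.cast_card_eq_zero F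
    rw [hF] at h1
    have h2 : (2 : F) * 2 = 0 := by
      have : ((4 : ℕ) : F) = 2 * 2 := by norm_num
      rw [← this]; exact h1
    rcases mul_eq_zero.1 h2 with h3 | h3 <;> exact h3
  have add_self : ∀ c : F, c + c = 0 := fun c => by rw [← two_mul, hchar, zero_mul]
  have cube : ∀ c : F, c ≠ 0 → c ^ 3 = 1 := by
    intro c hc
    have := FiniteField.pow_card_sub_one_eq_one c hc
    rwa [hF] at this
  obtain ⟨ω, hω0, hω1⟩ : ∃ ω : F, ω ≠ 0 ∧ ω ≠ 1 := by
    by_contra hcon
    push Not at hcon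
    have h1 : (Finset.univ : Finset F) ⊆ {0, 1} := by
      intro c _
      rw [Finset.mem_insert, Finset.mem_singleton]
      by_cases hc : c = 0
      · exact Or.inl hc
      · exact Or.inr (hcon c hc)
    have h2 := Finset.card_le_card h1
    rw [Finset.card_univ, hF] at h2
    have h3 : ({0, 1} : Finset F).card ≤ 2 := Finset.card_le_two
    omega
  -- points
  have pt : ∀ i j : Fin n, i ≠ j → ∀ c : F, c ≠ 0 → ∃ p ∈ E, ∃ k : F, k ≠ 0 ∧
      (Pi.single i 1 + Pi.single j c : Fin n → F) = k • f p := by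
    intro i j hij c hc
    have h0 : (Pi.single i 1 + Pi.single j c : Fin n → F) ≠ 0 := by
      intro h0
      have h1 := congrFun h0 i
      rw [Pi.add_apply, Pi.single_eq_same, Pi.single_eq_of_ne hij, add_zero, Pi.zero_apply] at h1
      exact one_ne_zero h1
    obtain ⟨p, hp, k, hk⟩ := hsurj _ h0 (by
      rw [herm_pair, Pi.add_apply, Pi.add_apply, Pi.single_eq_same, Pi.single_eq_same,
        Pi.single_eq_of_ne hij, Pi.single_eq_of_ne hij.symm, add_zero, zero_add, one_pow, mul_one,
        ← pow_succ', cube c hc]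
      exact add_self 1)
    refine ⟨p, hp, k, ?_, hk⟩
    rintro rfl
    rw [zero_smul] at hk
    exact h0 hk
  -- commuting with a point
  have hc : ∀ {p q : H} {v : Fin n → F} {k : F}, p ∈ E → q ∈ E → k ≠ 0 → v = k • f p →
      (Commute p q ↔ hermForm n F 2 v (f q) = 0) := by
    intro p q v k hp hq hk hv
    rw [hcomm p hp q hq, hv, herm_smul_left, mul_eq_zero, or_iff_right hk]
  have hc2 : ∀ {p q : H} {v w : Fin n → F} {k l : F}, p ∈ E → q ∈ E → k ≠ 0 → l ≠ 0 → v = k • f p → w = l • f q →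
      (Commute p q ↔ hermForm n F 2 v w = 0) := by
    intro p q v w k l hp hq hk hl hv hw
    rw [hc hp hq hk hv, hw, herm_smul_right, mul_eq_zero, or_iff_right (pow_ne_zero 2 hl)]
  obtain ⟨i0, hi0⟩ : ∃ i : Fin n, i.val = 0 := ⟨⟨0, by omega⟩, rfl⟩
  obtain ⟨i1, hi1⟩ : ∃ i : Fin n, i.val = 1 := ⟨⟨1, by omega⟩, rfl⟩
  obtain ⟨i2, hi2⟩ : ∃ i : Fin n, i.val = 2 := ⟨⟨2, by omega⟩, rfl⟩
  obtain ⟨i3, hi3⟩ : ∃ i : Fin n, i.val = 3 := ⟨⟨3, by omega⟩, rfl⟩
  have n01 : i0 ≠ i1 := fun h0 => by rw [h0, hi1] at hi0; omega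
  have n02 : i0 ≠ i2 := fun h0 => by rw [h0, hi2] at hi0; omega
  have n12 : i1 ≠ i2 := fun h0 => by rw [h0, hi2] at hi1; omega
  obtain ⟨x, hx, kx, kx0, ex⟩ := pt i0 i1 n01 1 one_ne_zero
  obtain ⟨a, ha, ka, ka0, ea⟩ := pt i0 i1 n01 ω hω0
  obtain ⟨b, hb, kb, kb0, eb⟩ := pt i1 i2 n12 1 one_ne_zero
  -- evaluations
  have ev : ∀ i j : Fin n, ∀ a b : F, ∀ k : Fin n, (Pi.single i a + Pi.single j b : Fin n → F) k =
      (if k = i then a else 0) + (if k = j then b else 0) := by
    intro i j a b k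
    rw [Pi.add_apply, Pi.single_apply, Pi.single_apply]
  have hxa : x * a ≠ a * x := by
    intro h0
    have h1 := (hc2 hx ha kx0 ka0 ex ea).1 h0
    rw [herm_pair, ev, ev, if_pos rfl, if_neg n01, if_neg n01.symm, if_pos rfl, add_zero, zero_add, one_pow,
      one_mul, one_mul] at h1
    -- `1 + ω ^ 2 = 0`
    apply hω1
    have h2 : (ω - 1) ^ 2 = 0 := by
      linear_combination h1 - ω * hchar
    exact sub_eq_zero.1 (pow_eq_zero_iff (two_ne_zero) |>.1 h2)
  have hxb : x * b ≠ b * x := by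
    intro h0
    have h1 := (hc2 hx hb kx0 kb0 ex eb).1 h0
    rw [herm_pair, ev, ev, if_neg n01, if_neg n02, if_pos rfl, if_neg n12] at h1
    norm_num at h1
  have hab : a * b ≠ b * a := by
    intro h0
    have h1 := (hc2 ha hb ka0 kb0 ea eb).1 h0
    rw [herm_pair, ev, ev, if_neg n01, if_neg n02, if_pos rfl, if_neg n12] at h1
    norm_num at h1
    exact hω0 h1
  refine ⟨x, a, b, hx, ha, hb, hxa, hxb, hab, ?_⟩
  obtain ⟨hz, -, -, hcen⟩ := third_facts h hx ha hxa
  rw [third_cj h hx]
  obtain ⟨w, hw⟩ : ∃ w, w = f (cj x a) := ⟨_, rfl⟩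
  -- the third point lies in the plane of the first two coordinates
  have hw0 : ∀ i j : Fin n, i ≠ j → i ≠ i0 → i ≠ i1 → j ≠ i0 → j ≠ i1 → w j = 0 := by
    intro i j hij a1 a2 a3 a4
    have key : ∀ c : F, c ≠ 0 → w i ^ 2 + c * w j ^ 2 = 0 := by
      intro c hc0
      obtain ⟨p, hp, k, k0, ep⟩ := pt i j hij c hc0
      have p1 : Commute p x := by
        rw [hc2 hp hx k0 kx0 ep ex, herm_pair, ev, ev, if_neg a1, if_neg a2, if_neg a3, if_neg a4]
        norm_num
      have p2 : Commute p a := by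
        rw [hc2 hp ha k0 ka0 ep ea, herm_pair, ev, ev, if_neg a1, if_neg a2, if_neg a3, if_neg a4]
        norm_num
      have h1 := (hc hp hz k0 ep).1 (hcen p p1 p2)
      rw [← hw, herm_pair, one_mul] at h1
      exact h1
    have h1 := key 1 one_ne_zero
    have h2 := key ω hω0
    have h3 : (1 - ω) * w j ^ 2 = 0 := by linear_combination h1 - h2
    rcases mul_eq_zero.1 h3 with h4 | h4
    · exact absurd (sub_eq_zero.1 h4).symm hω1
    · exact pow_eq_zero_iff two_ne_zero |>.1 h4
  have hw0' : ∀ j : Fin n, j ≠ i0 → j ≠ i1 → w j = 0 := by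
    intro j h1 h2
    have n20 : i2 ≠ i0 := n02.symm
    have n21 : i2 ≠ i1 := n12.symm
    have n30 : i3 ≠ i0 := fun h0 => by rw [h0, hi0] at hi3; omega
    have n31 : i3 ≠ i1 := fun h0 => by rw [h0, hi1] at hi3; omega
    by_cases h3 : j = i2
    · refine hw0 i3 j ?_ n30 n31 h1 h2
      rw [h3]
      intro h0
      rw [h0, hi2] at hi3
      omega
    · exact hw0 i2 j (Ne.symm h3) n20 n21 h1 h2
  have hww : w i0 ^ 3 + w i1 ^ 3 = 0 := by
    have h1 := hiso _ hz
    rw [← hw] at h1
    unfold Cfsg.hermForm at h1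
    have h2 : ∑ i, w i * w i ^ 2 = ∑ i ∈ ({i0, i1} : Finset (Fin n)), w i * w i ^ 2 := by
      refine (Finset.sum_subset (Finset.subset_univ _) fun j _ hj => ?_).symm
      rw [Finset.mem_insert, Finset.mem_singleton, not_or] at hj
      rw [hw0' j hj.1 hj.2, zero_mul]
    rw [h2, Finset.sum_pair n01] at h1
    linear_combination h1
  have hw1 : w i1 ≠ 0 := by
    intro h1
    rw [h1] at hww
    have h2 : w i0 = 0 := by
      have h3 : w i0 ^ 3 = 0 := by linear_combination hww
      exact pow_eq_zero_iff three_ne_zero |>.1 h3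
    apply hne _ hz
    rw [← hw]
    funext j
    by_cases j0 : j = i0
    · rw [j0]; exact h2
    by_cases j1 : j = i1
    · rw [j1]; exact h1
    exact hw0' j j0 j1
  intro h0
  have h1 : Commute b (cj x a) := h0.symm
  have h2 := (hc hb hz kb0 eb).1 h1
  rw [← hw, herm_pair, hw0' i2 n02.symm n12.symm] at h2
  apply hw1
  have h3 : w i1 ^ 2 = 0 := by linear_combination h2
  exact pow_eq_zero_iff two_ne_zero |>.1 h3

end U

end Cfsg.Agent.H836.TT
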